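import Cfsg.Agent.H331.P1.HasCen
import Cfsg.Agent.H338.Out.Main
import Cfsg.Agent.H338.Out.RankOne
import Cfsg.Agent.H238.CB.Main

/-!
# S3046, case B: the row of the groups of Lie type in characteristic `p` (helper331)

All families but `Sz`, `Ree`, `²F₄`.
-/

set_option autoImplicit false

namespace Cfsg.Agent.H331.P1

open Subgroup Cfsg Cfsg.Agent.KFacts.RgdFilt Cfsg.Agent.KFacts.RgdLieCharP Cfsg.Agent.H238.CB Cfsg.Agent.Tits.Roots
open Cfsg.Agent.H271.PU

variable {p : ℕ} [Fact p.Prime] {H : Type*} [Group H] [Finite H] {S : Sylow p H} {C Q P V W K : Subgroup H}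

/-- Groups with a filtered root group datum of characteristic `p`. -/
theorem caseB_false_filt (h : CaseB p S C Q P V W) (hK : K.Normal) (hs : IsSimpleGroup K)
    (hna : ∃ a b : K, a * b ≠ b * a) (hp : p ∣ Nat.card K) (hF : HasFilt p K) : False := by
  rcases hasCen_or_ti hF hna with h1 | h1
  · have hC := h1
    have hSK : (S : Subgroup H) ≤ K := by
      obtain ⟨l, M, A, hc, T, n, X, R, r, R0, hW, hGG, hcen, -⟩ := h1
      have : Nonempty (Fin l) := by
        obtain ⟨w, i, -⟩ := hcen.root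
        exact ⟨i⟩
      exact H338.Out.sylow_le R hGG h.loc K (MulEquiv.refl _) S
    exact caseB_of_hasCen h K hC hSK
  · exact H338.Out.caseB_false_of_TI h hK hp fun P Q hPQ => (h1 P Q).resolve_left hPQ

/-- **The families** `PSL`, `PSp`, `PSU`, `PΩ`, `G₂`, `F₄`, `E₆`, `E₇`, `E₈`, `²E₆`, `³D₄` in characteristic `p`. -/
theorem caseB_false_lie (h : CaseB p S C Q P V W) (hK : K.Normal) (hs : IsSimpleGroup K)
    (hna : ∃ a b : K, a * b ≠ b * a) (hp : p ∣ Nat.card K) (hF : IsLieFilt p K) : False :=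
  caseB_false_filt h hK hs hna hp (hasFilt_of_lie hF)

end Cfsg.Agent.H331.P1
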