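import Cfsg.Agent.H331.P1.Comb
import Cfsg.Agent.KFacts.RgdCharP
import Cfsg.Agent.Lib.NormalAbelian

/-!
# S3046, case B: central root elements from a filtration (helper331)

`exists_cen` : a root group datum with a filtration (`Filt`; all groups of Lie type but `Sz`, `Ree`, `²F₄`) has a dominant
root `r` and a subgroup `1 ≠ R₀ ≤ X r` centralised by `X x` for all roots `x` with `⟨x, r^∨⟩ ≥ 0`.

Proof: `s_x = min {s : F x s ≠ 1}` is invariant under `W`. Take `r` with `(r, r) / s_r²` maximal, dominant, and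
`f = (s_r / 2) ⟨·, r^∨⟩`. Then `f r = s_r` and `f z < s_z` for the other roots (Cauchy-Schwarz).
-/

set_option autoImplicit false
set_option linter.unusedSectionVars false

namespace Cfsg.Agent.H331.P1

open CoxeterSystem Cfsg.Agent.ChevalleyStructure.CoxeterGeom Cfsg.Agent.Tits.Roots Cfsg.Agent.Tits.Core
  Cfsg.Agent.Tits.Exchange Cfsg.Agent.Nodes.Reps Cfsg.Agent.Nodes.BNOf Cfsg.Agent.Nodes.StabComb
  Cfsg.Agent.Nodes.Bruhat Cfsg.Agent.Nodes.OppDec Cfsg.Agent.Nodes.PosPair Cfsg.Agent.Nodes.Coroot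
  Cfsg.Agent.KFacts.RgdSL Cfsg.Agent.KFacts.RgdFilt Cfsg.Agent.KFacts.RgdBorelTits Cfsg.Agent.KFacts.RgdCharP
open scoped commutatorElement

variable {I W Y : Type*} [Fintype I] [DecidableEq I] [Group W] [Group Y] {M : CoxeterMatrix I}
  {cs : CoxeterSystem M W} {A : I → I → ℤ} {h : IsCartan M A} {p : ℕ} {T : Subgroup Y} {n : I → Y}
  {X : (I → ℤ) → Subgroup Y}

/-! ### the levels -/

/-- `s` is the least `s` with `F x s ≠ 1` -/
structure Lv (F : (I → ℤ) → ℝ → Subgroup Y) (x : I → ℤ) (s : ℝ) : Prop where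
  pos : 0 < s
  ne : F x s ≠ ⊥
  min : ∀ t < s, F x t = ⊥

theorem Lv.unique {F : (I → ℤ) → ℝ → Subgroup Y} {x : I → ℤ} {s t : ℝ} (hs : Lv F x s) (ht : Lv F x t) : s = t := by
  rcases lt_trichotomy s t with h1 | h1 | h1
  · exact absurd (ht.min s h1) hs.ne
  · exact h1
  · exact absurd (hs.min t h1) ht.ne

section

variable [Finite W] [Finite Y] {R : RGD cs h p T n X} {F : (I → ℤ) → ℝ → Subgroup Y} (hF : Filt R F)

include hF

theorem exists_lv {x : I → ℤ} (hx : IsRoot cs h x) : ∃ s, Lv F x s := by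
  set E : Set ℝ := {s | F x s ≠ ⊥} with hE
  have hE' : E = ⋃ u : {u : Y // u ≠ 1}, {s : ℝ | u.1 ∈ F x s} := by
    ext s
    simp only [hE, Set.mem_ofPred_eq, Set.mem_iUnion, Subgroup.ne_bot_iff_exists_ne_one]
    constructor
    · rintro ⟨⟨u, hu⟩, h1⟩
      exact ⟨⟨u, fun h2 => h1 (Subtype.ext h2)⟩, hu⟩
    · rintro ⟨⟨u, h1⟩, hu⟩
      exact ⟨⟨u, hu⟩, fun h2 => h1 (congrArg Subtype.val h2)⟩
  have hcl : IsClosed E := by
    rw [hE']
    exact isClosed_iUnion_of_finite fun u => hF.closed x hx u.1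
  obtain ⟨C, hC, hC1⟩ := hF.full
  have hne : E.Nonempty := by
    refine ⟨C, fun h0 => X_ne_bot R hx ?_⟩
    rw [eq_bot_iff, ← h0]
    exact hC1 x C hx le_rfl
  have hlb : ∀ s ∈ E, 0 < s := by
    intro s hs
    by_contra h0
    exact hs (hF.neg x s hx (not_lt.1 h0))
  have hbd : BddBelow E := ⟨0, fun s hs => (hlb s hs).le⟩
  have h1 := hcl.csInf_mem hne hbd
  refine ⟨sInf E, hlb _ h1, h1, fun t ht => ?_⟩
  by_contra h2
  exact notMem_of_lt_csInf ht hbd h2

theorem lv_simple {x : I → ℤ} (hx : IsRoot cs h x) {s : ℝ} (hs : Lv F x s) (k : I) :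
    Lv F (rep cs h (cs.simple k) x) s := by
  have h1 : ∀ t, F (rep cs h (cs.simple k) x) t = ⊥ ↔ F x t = ⊥ := by
    intro t
    rw [← hF.conj k x t hx]
    unfold cj
    exact Subgroup.map_eq_bot_iff_of_injective _ (MulAut.conj (n k)).injective
  exact ⟨hs.pos, fun h2 => hs.ne ((h1 _).1 h2), fun t ht => (h1 _).2 (hs.min t ht)⟩

/-- the dominant root with `(r, r) / s_r²` maximal -/
theorem exists_max_root [Nonempty I] : ∃ (r : I → ℤ) (q : ℝ), DR cs h r ∧ Lv F r q ∧
    ∀ [Fintype W] (x : I → ℤ) (t : ℝ), IsRoot cs h x → Lv F x t →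
      (form cs h x x : ℝ) * q ^ 2 ≤ (form cs h r r : ℝ) * t ^ 2 := by
  classical
  have hFin := Fintype.ofFinite W
  have hr : ∀ v : W × I, IsRoot cs h (rep cs h v.1 (sr v.2)) := fun v => ⟨v.1, v.2, rfl⟩
  choose g hg using fun v : W × I => exists_lv hF (hr v)
  obtain ⟨v, hm⟩ := Finite.exists_max (fun v : W × I =>
    toLex ((form cs h (rep cs h v.1 (sr v.2)) (rep cs h v.1 (sr v.2)) : ℝ) / (g v) ^ 2, ht (rep cs h v.1 (sr v.2))))
  set r := rep cs h v.1 (sr v.2) with hrdef
  set q := g v with hq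
  have hroot : IsRoot cs h r := hr v
  have hmax : ∀ x t, IsRoot cs h x → Lv F x t →
      toLex ((form cs h x x : ℝ) / t ^ 2, ht x) ≤ toLex ((form cs h r r : ℝ) / q ^ 2, ht r) := by
    rintro x t ⟨w, j, rfl⟩ hx
    have h1 := hm (w, j)
    have h2 : g (w, j) = t := (hg (w, j)).unique hx
    rw [h2] at h1
    exact h1
  have hdom : Dom A r := by
    intro k
    by_contra hk
    push Not at hk
    have h1 := hmax _ q (hroot.act (cs.simple k)) (lv_simple hF hroot (hg v) k)
    rw [form_rep, ht_simple, Prod.Lex.le_iff] at h1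
    rcases h1 with h1 | ⟨_, h1⟩
    · exact lt_irrefl _ h1
    · have : ht r - pairing A k r ≤ ht r := h1
      omega
  refine ⟨r, q, ⟨hroot, ?_, hdom⟩, hg v, ?_⟩
  · rcases hroot.pos_or_neg with h1 | h1
    · exact h1
    · exfalso
      have h2 := form_nonneg_of_dom cs h hdom (y := -r) (by rwa [Left.nonneg_neg_iff])
      rw [form_neg_right] at h2
      have h3 := form_pos cs h hroot.ne_zero
      linarith
  · intro hF' x t hx hxt
    have : hF' = hFin := Subsingleton.elim _ _
    subst this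
    have h1 := hmax x t hx hxt
    rw [Prod.Lex.le_iff] at h1
    have h2 : (form cs h x x : ℝ) / t ^ 2 ≤ (form cs h r r : ℝ) / q ^ 2 := by
      rcases h1 with h1 | ⟨h1, _⟩
      · exact h1.le
      · exact le_of_eq h1
    rwa [div_le_div_iff₀ (pow_pos hxt.pos 2) (pow_pos (hg v).pos 2)] at h2

/-- **Central root elements.** -/
theorem exists_cen [Nonempty I] [Fact p.Prime] : ∃ (r : I → ℤ) (R₀ : Subgroup Y), DR cs h r ∧ R₀ ≤ X r ∧ R₀ ≠ ⊥ ∧
    ∀ x, IsRoot cs h x → 0 ≤ cpr cs h x r → X x ≤ Subgroup.centralizer (R₀ : Set Y) := by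
  have hFin := Fintype.ofFinite W
  obtain ⟨r, q, hr, hq, hmax⟩ := exists_max_root hF
  have hrp := hr.root
  have hq0 := hq.pos
  have haR : (0 : ℝ) < (form cs h r r : ℝ) := by exact_mod_cast form_pos cs h hrp.ne_zero
  set f : I → ℝ := fun k => q / 2 * (cpr cs h (sr k) r : ℝ) with hf
  have hev : ∀ x, ev f x = q / 2 * (cpr cs h x r : ℝ) := by
    intro x
    rw [ev_apply, cpr_sum x hrp, Int.cast_sum, Finset.mul_sum]
    refine Finset.sum_congr rfl fun k _ => ?_
    rw [hf, Int.cast_mul]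
    ring
  have hevr : ev f r = q := by
    rw [hev, cpr_self cs h hrp]
    push_cast
    ring
  -- the other roots
  have hlow : ∀ z, IsRoot cs h z → z ≠ r → F z (ev f z) = ⊥ := by
    intro z hz hzr
    obtain ⟨t, ht⟩ := exists_lv hF hz
    refine ht.min _ ?_
    have ht0 := ht.pos
    rw [hev]
    by_cases hc : cpr cs h z r ≤ 0
    · have h1 : (cpr cs h z r : ℝ) ≤ 0 := by exact_mod_cast hc
      have h2 := mul_nonpos_of_nonneg_of_nonpos (by positivity : 0 ≤ q / 2) h1
      linarith
    push Not at hc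
    have hzr' : z ≠ -r := by
      rintro rfl
      rw [cpr_neg_left _ hrp, cpr_self cs h hrp] at hc
      omega
    have h1 : form cs h z r * form cs h z r < form cs h z z * form cs h r r := by
      have := gram_pos cs h hz hrp hzr hzr'
      linarith
    have h2 := hmax z t hz ht
    have h3 := two_form_cpr cs h z hrp
    have h1' : (form cs h z r : ℝ) * form cs h z r < form cs h z z * form cs h r r := by exact_mod_cast h1
    have h3' : 2 * (form cs h z r : ℝ) = cpr cs h z r * form cs h r r := by exact_mod_cast h3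
    set a : ℝ := (form cs h r r : ℝ)
    set b : ℝ := (form cs h z z : ℝ)
    set c : ℝ := (form cs h z r : ℝ)
    have h4 : q / 2 * (cpr cs h z r : ℝ) * a = q * c := by
      calc q / 2 * (cpr cs h z r : ℝ) * a = q / 2 * ((cpr cs h z r : ℝ) * a) := by ring
        _ = q / 2 * (2 * c) := by rw [h3']
        _ = q * c := by ring
    have h5 : (q * c) ^ 2 < (a * t) ^ 2 := by
      calc (q * c) ^ 2 = (c * c) * q ^ 2 := by ring
        _ < (b * a) * q ^ 2 := by
            exact mul_lt_mul_of_pos_right h1' (by positivity)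
        _ = a * (b * q ^ 2) := by ring
        _ ≤ a * (a * t ^ 2) := mul_le_mul_of_nonneg_left h2 haR.le
        _ = (a * t) ^ 2 := by ring
    have h6 : q * c < a * t := lt_of_pow_lt_pow_left₀ 2 (by positivity) h5
    rw [← h4] at h6
    have h7 : q / 2 * (cpr cs h z r : ℝ) * a < t * a := by linarith
    exact lt_of_mul_lt_mul_right h7 haR.le
  -- commutators
  have hcomm : ∀ y, IsRoot cs h y → y ≠ r → 0 ≤ cpr cs h y r → ∀ b ∈ X y, ∀ a ∈ F r q, b * a = a * b := by
    intro y hy hyr hc b hb a ha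
    have hyr' : r ≠ -y := by
      rintro h0
      rw [h0, cpr_neg_right cs h y hy, cpr_self cs h hy] at hc
      omega
    have h1 := hF.comm f r y hrp hy (Ne.symm hyr) hyr' (by rw [hevr]; exact hq0)
      (by rw [hev]; have : (0 : ℝ) ≤ (cpr cs h y r : ℝ) := by exact_mod_cast hc
          positivity) a (by rwa [hevr]) b hb
    have h2 : FS (fun z => F z (ev f z)) {z | Btwn cs h r y z} = ⊥ := by
      rw [eq_bot_iff]
      refine FS_le fun z hz => ?_
      rw [hlow z hz.1]
      rintro rfl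
      obtain ⟨-, m, i, j, hm, hi, hj, e⟩ := hz
      have h3 : (m - i) • z = j • y := by
        rw [sub_smul, e]; abel
      by_cases h4 : m - i = 0
      · rw [h4, zero_smul] at h3
        exact hy.ne_zero ((smul_eq_zero.1 h3.symm).resolve_left hj.ne')
      · rcases eq_or_eq_neg_of_smul cs h hrp hy h4 h3 with h5 | h5
        · exact hyr h5.symm
        · exact hyr' h5
    rw [h2, Subgroup.mem_bot, commutatorElement_eq_one_iff_mul_comm] at h1
    exact h1.symm
  -- the centre
  have hpg : IsPGroup p ↥(X r) := by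
    obtain ⟨w, i, e⟩ := hrp
    obtain ⟨g, hg⟩ := exists_rp cs R.nsys w
    have h1 := R.conj_rp hg (isRoot_sr cs h i)
    rw [← e] at h1
    rw [← h1]
    exact (R.pgrp i).map _
  have hnil : Group.IsNilpotent ↥(X r) := hpg.isNilpotent
  have hle : F r q ≤ X r := hF.le r q hrp
  let N : Subgroup ↥(X r) := (F r q).subgroupOf (X r)
  have hN : N.Normal := by
    refine ⟨fun a ha b => ?_⟩
    have h1 := hF.nrm r q hrp b.2
    exact (Subgroup.mem_normalizer_iff.1 h1 a).1 ha
  have hN1 : N ≠ ⊥ := by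
    intro h0
    apply hq.ne
    have h1 : (N.map (X r).subtype) = F r q := by
      rw [Subgroup.subgroupOf_map_subtype, inf_eq_left.2 hle]
    rw [← h1, h0, Subgroup.map_bot]
  have hZ := Lib.NormalAbelian.normal_inf_center_ne_bot N hN1
  refine ⟨r, (N ⊓ Subgroup.center ↥(X r)).map (X r).subtype, hr, Subgroup.map_subtype_le _, ?_, ?_⟩
  · rw [Ne, Subgroup.map_eq_bot_iff_of_injective _ (X r).subtype_injective]
    exact hZ
  · intro x hx hc b hb
    rw [Subgroup.mem_centralizer_iff]
    rintro _ ⟨a, ha, rfl⟩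
    by_cases hxr : x = r
    · subst hxr
      exact congrArg Subtype.val (Subgroup.mem_center_iff.1 ha.2 ⟨b, hb⟩).symm
    · exact (hcomm x hx hxr hc b hb _ ha.1).symm

end

/-- in a connected diagram of rank at least two a simple root is not dominant -/
theorem ne_sr_of_conn {a : I → ℤ} (hc : Conn M) (h2 : 2 ≤ Fintype.card I) (ha : DR cs h a) (i : I) : a ≠ sr i := by
  rintro rfl
  obtain ⟨b, hb, c, hcb, hM⟩ := hc {i} (Set.singleton_nonempty i) (by
    intro h0
    have h1 : Fintype.card I ≤ 1 := by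
      rw [Fintype.card_le_one_iff]
      intro a b
      have ha : a ∈ ({i} : Set I) := by rw [h0]; trivial
      have hb : b ∈ ({i} : Set I) := by rw [h0]; trivial
      rw [Set.mem_singleton_iff] at ha hb
      rw [ha, hb]
    omega)
  rw [Set.mem_singleton_iff] at hb hcb
  subst hb
  have h1 := ha.dom c
  have h3 : pairing A c (sr b) = A c b := by
    rw [sr, pairing_single, mul_one]
  rw [h3] at h1
  have h4 := cartan_neg h hcb (by rwa [M.symmetric c b])
  omega

end Cfsg.Agent.H331.P1
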