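import Cfsg.Agent.KFacts.RgdFilt

/-!
# S3046, case B for the groups of Lie type: root combinatorics (helper331)

`DR cs h a` : a dominant positive root `a`.
* `DR.cpr_nonneg`, `cpr_sum` : `⟨x, a^∨⟩ = ∑ x_k ⟨α_k, a^∨⟩`; `DR.coef` : `2 = ∑ a_k ⟨α_k, a^∨⟩`;
* `exists_ld` : a dominant root of maximal length; `LD.comm` : `X x` centralises `X a` if `⟨x, a^∨⟩ ≥ 0`;
* `comm_ne_of_long` : in an `A₂`-plane of long roots nontrivial root elements do not commute;
* `move` : a root with the same coefficients outside `J` and the same length as `α_i` is conjugate to `α_i` under `W_J`;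
* `contra_gen`, `contra` : the contradiction.
-/

set_option autoImplicit false
set_option linter.unusedSectionVars false

namespace Cfsg.Agent.H331.P1

open CoxeterSystem Cfsg.Agent.ChevalleyStructure.CoxeterGeom Cfsg.Agent.Tits.Roots Cfsg.Agent.Tits.Core
  Cfsg.Agent.Tits.Exchange Cfsg.Agent.Nodes.Reps Cfsg.Agent.Nodes.BNOf Cfsg.Agent.Nodes.StabComb
  Cfsg.Agent.Nodes.Bruhat Cfsg.Agent.Nodes.OppDec Cfsg.Agent.Nodes.PosPair Cfsg.Agent.Nodes.Coroot
  Cfsg.Agent.KFacts.RgdSL Cfsg.Agent.KFacts.RgdFilt Cfsg.Agent.KFacts.RgdBorelTits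
open scoped commutatorElement

variable {I W Y : Type*} [Fintype I] [DecidableEq I] [Group W] [Group Y] {M : CoxeterMatrix I}
  {cs : CoxeterSystem M W} {A : I → I → ℤ} {h : IsCartan M A} {p : ℕ} {T : Subgroup Y} {n : I → Y}
  {X : (I → ℤ) → Subgroup Y}

/-! ### coefficients -/

theorem eq_sum_sr (x : I → ℤ) : x = ∑ k, x k • sr k := by
  funext b
  rw [Finset.sum_apply]
  simp only [Pi.smul_apply, smul_eq_mul, sr, Pi.single_apply]
  simp

theorem cpr_sum [Finite W] (x : I → ℤ) {y : I → ℤ} (hy : IsRoot cs h y) :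
    cpr cs h x y = ∑ k, x k * cpr cs h (sr k) y := by
  have h1 : ell cs h hy x = ∑ k, x k * ell cs h hy (sr k) := by
    conv_lhs => rw [eq_sum_sr x]
    rw [map_sum]
    refine Finset.sum_congr rfl fun k _ => ?_
    rw [map_zsmul, smul_eq_mul]
  exact h1

/-- a dominant positive root -/
structure DR (cs : CoxeterSystem M W) (h : IsCartan M A) (a : I → ℤ) : Prop where
  root : IsRoot cs h a
  nonneg : 0 ≤ a
  dom : Dom A a

theorem DR.cpr_nonneg [Finite W] {a : I → ℤ} (ha : DR cs h a) {x : I → ℤ} (hx : 0 ≤ x) : 0 ≤ cpr cs h x a := by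
  have := Fintype.ofFinite W
  have h1 := form_nonneg_of_dom cs h ha.dom hx
  have h2 := two_form_cpr cs h x ha.root
  have h3 := form_pos cs h ha.root.ne_zero
  rw [form_comm] at h1
  by_contra hcon
  push Not at hcon
  have := mul_neg_of_neg_of_pos hcon h3
  linarith

theorem DR.cpr_sr_pos_iff [Finite W] {a : I → ℤ} (ha : DR cs h a) (k : I) :
    0 < cpr cs h (sr k) a ↔ 0 < pairing A k a := by
  have := Fintype.ofFinite W
  rw [cpr_pos_iff cs h _ ha.root, ← form_sr_pos_iff cs h, form_comm]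

/-- `⟨a, α_k^∨⟩ > 0` implies `a_k > 0` -/
theorem DR.coef_pos [Finite W] {a : I → ℤ} (ha : DR cs h a) {k : I} (hk : 0 < cpr cs h (sr k) a) : 0 < a k := by
  rw [ha.cpr_sr_pos_iff] at hk
  by_contra hcon
  have h0 : a k = 0 := le_antisymm (not_lt.1 hcon) (ha.nonneg k)
  have : pairing A k a ≤ 0 := by
    unfold pairing
    refine Finset.sum_nonpos fun j _ => ?_
    by_cases hj : j = k
    · subst hj; rw [h0, mul_zero]
    · exact mul_nonpos_of_nonpos_of_nonneg (cartan_nonpos h (Ne.symm hj)) (ha.nonneg j)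
  omega

theorem DR.coef [Finite W] {a : I → ℤ} (ha : DR cs h a) : ∑ k, a k * cpr cs h (sr k) a = 2 := by
  rw [← cpr_sum a ha.root, cpr_self cs h ha.root]

/-- the combinatorial cases -/
theorem DR.cases [Finite W] {a : I → ℤ} (ha : DR cs h a) {J : Set I} {i : I} (hi : i ∉ J)
    (hc : ∀ k ∉ J, 0 < cpr cs h (sr k) a)
    (hp : ∀ k ∉ J, 0 ≤ rep cs h (cs.simple k) a ∧ ∃ l ∉ J, 0 < rep cs h (cs.simple k) a l) :
    (∀ j ∈ J, cpr cs h (sr j) a = 0) ∧ cpr cs h (sr i) a = 1 ∧ pairing A i a = 1 ∧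
      ∃ k, k ∉ J ∧ cpr cs h (sr k) a = 1 ∧ pairing A k a = 1 ∧ (a - sr k) i = 1 ∧
        ∀ l, l ∉ J → l ≠ i → (a - sr k) l = 0 := by
  classical
  have e0 : ∀ k, 0 ≤ cpr cs h (sr k) a := fun k => ha.cpr_nonneg (sr_nonneg k)
  have t0 : ∀ k, 0 ≤ a k * cpr cs h (sr k) a := fun k => mul_nonneg (ha.nonneg k) (e0 k)
  have c1 : ∀ k ∉ J, 1 ≤ a k := fun k hk => ha.coef_pos (hc k hk)
  have t1 : ∀ k ∉ J, 1 ≤ a k * cpr cs h (sr k) a := fun k hk => by
    have h1 := c1 k hk
    have h2 := hc k hk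
    nlinarith
  have m1 : ∀ k ∉ J, 1 ≤ pairing A k a := fun k hk => (ha.cpr_sr_pos_iff k).1 (hc k hk)
  have hsum := ha.coef
  have hco : ∀ k, rep cs h (cs.simple k) a k = a k - pairing A k a := fun k => rep_simple_apply_self cs h k a
  -- the terms of one, two or three indices
  have s1 : ∀ k, a k * cpr cs h (sr k) a ≤ 2 := by
    intro k
    rw [← hsum]
    exact Finset.single_le_sum (fun j _ => t0 j) (Finset.mem_univ k)
  have s2 : ∀ k l, k ≠ l → a k * cpr cs h (sr k) a + a l * cpr cs h (sr l) a ≤ 2 := by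
    intro k l hkl
    rw [← hsum]
    refine le_trans (le_of_eq (Finset.sum_pair (f := fun k => a k * cpr cs h (sr k) a) hkl).symm) ?_
    exact Finset.sum_le_sum_of_subset_of_nonneg (Finset.subset_univ _) fun j _ _ => t0 j
  have s3 : ∀ k l r, k ≠ l → k ≠ r → l ≠ r →
      a k * cpr cs h (sr k) a + (a l * cpr cs h (sr l) a + a r * cpr cs h (sr r) a) ≤ 2 := by
    intro k l r hkl hkr hlr
    rw [← hsum]
    have e1 := Finset.sum_pair (f := fun k => a k * cpr cs h (sr k) a) hlr
    have e2 := Finset.sum_insert (s := {l, r}) (a := k) (f := fun k => a k * cpr cs h (sr k) a) (by simp [hkl, hkr])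
    rw [e1] at e2
    refine le_trans (le_of_eq e2.symm) ?_
    exact Finset.sum_le_sum_of_subset_of_nonneg (Finset.subset_univ _) fun j _ _ => t0 j
  have zero_of : ∀ j, a j * cpr cs h (sr j) a ≤ 0 → cpr cs h (sr j) a = 0 := by
    intro j hj
    by_contra hne
    have h1 : 0 < cpr cs h (sr j) a := lt_of_le_of_ne (e0 j) (Ne.symm hne)
    have h2 := ha.coef_pos h1
    have := mul_pos h2 h1
    omega
  obtain ⟨l, hl, hpos⟩ := (hp i hi).2
  by_cases hli : l = i
  · subst hli
    rw [hco] at hpos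
    have h1 := m1 l hl
    have h2 : 2 ≤ a l := by omega
    have h3 := s1 l
    have h4 := hc l hl
    have h5 : cpr cs h (sr l) a = 1 := by nlinarith
    have h6 : a l = 2 := by rw [h5] at h3; omega
    have h7 : ∀ k, k ≠ l → k ∈ J := by
      intro k hk
      by_contra hkJ
      have := s2 k l hk
      have := t1 k hkJ
      rw [h5, h6] at *
      omega
    refine ⟨fun j hj => zero_of j ?_, h5, by omega, l, hl, h5, by omega, ?_, fun k hk hkl => absurd (h7 k hkl) hk⟩
    · have := s2 j l (by rintro rfl; exact hl hj)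
      rw [h5, h6] at this
      omega
    · rw [Pi.sub_apply, sr_self, h6]; norm_num
  · have h1 := t1 l hl
    have h2 := t1 i hi
    have h3 := s2 l i hli
    have c3 := c1 l hl
    have c4 := c1 i hi
    have c5 := hc l hl
    have c6 := hc i hi
    have el : cpr cs h (sr l) a = 1 := by nlinarith
    have ei : cpr cs h (sr i) a = 1 := by nlinarith
    have al : a l = 1 := by rw [el] at h1 h3; omega
    have ai : a i = 1 := by rw [ei] at h2 h3; omega
    have hml := (hp l hl).1 l
    have hmi := (hp i hi).1 i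
    rw [hco, al] at hml
    rw [hco, ai] at hmi
    have h7 := m1 l hl
    have h8 := m1 i hi
    simp only [Pi.zero_apply] at hml hmi
    have h9 : ∀ k, k ≠ i → k ≠ l → k ∈ J := by
      intro k hki hkl
      by_contra hkJ
      have h10 := s3 k l i hkl hki hli
      have := t1 k hkJ
      rw [el, ei, al, ai] at h10
      omega
    refine ⟨fun j hj => zero_of j ?_, ei, by omega, l, hl, el, by omega, ?_, ?_⟩
    · have h10 := s3 j l i (by rintro rfl; exact hl hj) (by rintro rfl; exact hi hj) hli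
      rw [el, ei, al, ai] at h10
      omega
    · rw [Pi.sub_apply, sr_ne (Ne.symm hli), ai]; norm_num
    · intro k hk hki
      by_cases hkl : k = l
      · subst hkl
        rw [Pi.sub_apply, sr_self, al]; norm_num
      · exact absurd (h9 k hki hkl) hk

/-! ### long roots -/

/-- a dominant root of maximal length -/
structure LD (cs : CoxeterSystem M W) (h : IsCartan M A) (a : I → ℤ) : Prop extends DR cs h a where
  long : ∀ [Fintype W] (x : I → ℤ), IsRoot cs h x → form cs h x x ≤ form cs h a a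

theorem exists_ld [Finite W] [Nonempty I] (cs : CoxeterSystem M W) (h : IsCartan M A) : ∃ a, LD cs h a := by
  classical
  have hF := Fintype.ofFinite W
  obtain ⟨⟨w, i⟩, hm⟩ := Finite.exists_max (fun q : W × I =>
    toLex (form cs h (rep cs h q.1 (sr q.2)) (rep cs h q.1 (sr q.2)), ht (rep cs h q.1 (sr q.2))))
  set a := rep cs h w (sr i) with ha
  have hroot : IsRoot cs h a := ⟨w, i, rfl⟩
  have hmax : ∀ x, IsRoot cs h x → toLex (form cs h x x, ht x) ≤ toLex (form cs h a a, ht a) := by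
    rintro x ⟨v, j, rfl⟩
    exact hm (v, j)
  have hdom : Dom A a := by
    intro k
    by_contra hk
    push Not at hk
    have h1 := hmax _ (hroot.act (cs.simple k))
    rw [form_rep, ht_simple, Prod.Lex.le_iff] at h1
    rcases h1 with h1 | ⟨_, h1⟩
    · exact lt_irrefl _ h1
    · have : ht a - pairing A k a ≤ ht a := h1
      omega
  refine ⟨a, ⟨hroot, ?_, hdom⟩, ?_⟩
  · rcases hroot.pos_or_neg with h1 | h1
    · exact h1
    · exfalso
      have h2 := form_nonneg_of_dom cs h hdom (y := -a) (by rwa [Left.nonneg_neg_iff])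
      rw [form_neg_right] at h2
      have h3 := form_pos cs h hroot.ne_zero
      linarith
  · intro hF' x hx
    have : hF' = hF := Subsingleton.elim _ _
    subst this
    have h1 := hmax x hx
    rw [Prod.Lex.le_iff] at h1
    rcases h1 with h1 | ⟨h1, _⟩
    · exact h1.le
    · exact le_of_eq h1

theorem LD.le_one [Finite W] {a : I → ℤ} (ha : LD cs h a) {x : I → ℤ} (hx : IsRoot cs h x) (hxa : x ≠ a) :
    cpr cs h x a ≤ 1 := by
  have := Fintype.ofFinite W
  by_cases hxa' : x = -a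
  · rw [hxa', cpr_neg_left _ ha.root, cpr_self cs h ha.root]; norm_num
  have h1 := gram_pos cs h hx ha.root hxa hxa'
  have h2 := two_form_cpr cs h x ha.root
  have h3 := form_pos cs h ha.root.ne_zero
  have h4 := ha.long x hx
  by_contra hcon
  push Not at hcon
  have h5 : form cs h a a ≤ form cs h x a := by nlinarith
  nlinarith

theorem comm_of_ib {x y : I → ℤ} (hI : IntComm cs h X) (hx : IsRoot cs h x) (hy : IsRoot cs h y) (hxy : x ≠ y)
    (hxy' : x ≠ -y) (hb : ∀ z, ¬ IB cs h x y z) {u v : Y} (hu : u ∈ X x) (hv : v ∈ X y) : u * v = v * u := by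
  have h1 := hI x y hx hy hxy hxy' u hu v hv
  have h2 : FS X {z | IB cs h x y z} = ⊥ := by
    rw [eq_bot_iff]
    exact FS_le fun z hz => absurd hz (hb z)
  rwa [h2, Subgroup.mem_bot, commutatorElement_eq_one_iff_mul_comm] at h1

theorem comm_mem_ib {x y w : I → ℤ} (hI : IntComm cs h X) (hx : IsRoot cs h x) (hy : IsRoot cs h y) (hxy : x ≠ y)
    (hxy' : x ≠ -y) (hb : ∀ z, IB cs h x y z → z = w) {u v : Y} (hu : u ∈ X x) (hv : v ∈ X y) : ⁅u, v⁆ ∈ X w := by
  have h2 : FS X {z | IB cs h x y z} ≤ X w := FS_le fun z hz => by rw [hb z hz]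
  exact h2 (hI x y hx hy hxy hxy' u hu v hv)

/-- `X x` centralises `X a` if `⟨x, a^∨⟩ ≥ 0`, for a long root `a`. -/
theorem LD.comm [Finite W] {a : I → ℤ} (ha : LD cs h a) (hI : IntComm cs h X) {x : I → ℤ} (hx : IsRoot cs h x)
    (hxa : x ≠ a) (h0 : 0 ≤ cpr cs h x a) {u v : Y} (hu : u ∈ X x) (hv : v ∈ X a) : u * v = v * u := by
  have hxa' : x ≠ -a := by
    rintro rfl
    rw [cpr_neg_left _ ha.root, cpr_self cs h ha.root] at h0
    omega
  refine comm_of_ib hI hx ha.root hxa hxa' ?_ hu hv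
  rintro z ⟨hz, i, j, hi, hj, e⟩
  have h1 : 2 ≤ cpr cs h z a := by
    rw [e, cpr_add cs h _ _ ha.root, cpr_smul cs h _ _ ha.root, cpr_smul cs h _ _ ha.root, cpr_self cs h ha.root]
    have := mul_nonneg hi.le h0
    omega
  have h2 : z = a := by
    by_contra hne
    have := ha.le_one hz hne
    omega
  have h3 : i • x = (1 - j) • a := by
    rw [sub_smul, one_smul]
    rw [h2] at e
    calc i • x = (i • x + j • a) - j • a := by abel
      _ = a - j • a := by rw [← e]
  rcases eq_or_eq_neg_of_smul cs h hx ha.root hi.ne' h3 with h4 | h4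
  · exact hxa h4
  · exact hxa' h4

/-- integral combinations of two vectors of maximal length at 120 degrees -/
theorem ib_long [Fintype W] {x y : I → ℤ} {L : ℤ} (hL : 0 < L) (hx : form cs h x x = L) (hy : form cs h y y = L)
    (hxy : 2 * form cs h x y = -L) (hm : ∀ z, IsRoot cs h z → form cs h z z ≤ L) (z : I → ℤ) (hz : IB cs h x y z) :
    z = x + y := by
  obtain ⟨hz, i, j, hi, hj, e⟩ := hz
  have h1 := hm z hz
  have h2 : form cs h z z = i * i * L + j * j * L + i * j * (2 * form cs h x y) := by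
    rw [e, form_add_left, form_add_right, form_add_right, form_smul_left, form_smul_left, form_smul_left,
      form_smul_left, form_smul_right, form_smul_right, form_smul_right, form_smul_right, hx, hy, form_comm cs h y x]
    ring
  rw [h2, hxy] at h1
  have h3 : (i * i + j * j - i * j) * L ≤ 1 * L := by linarith
  have h4 := le_of_mul_le_mul_right h3 hL
  have h5 : i = 1 := by nlinarith [sq_nonneg (i - 2 * j), sq_nonneg (j - 1), sq_nonneg (i - j)]
  have h6 : j = 1 := by subst h5; nlinarith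
  rw [e, h5, h6, one_smul, one_smul]

theorem ib_long' [Fintype W] {x y : I → ℤ} {L : ℤ} (hL : 0 < L) (hx : form cs h x x = L) (hy : form cs h y y = L)
    (hxy : 2 * form cs h x y = L) (hm : ∀ z, IsRoot cs h z → form cs h z z ≤ L) (z : I → ℤ) : ¬ IB cs h x y z := by
  rintro ⟨hz, i, j, hi, hj, e⟩
  have h1 := hm z hz
  have h2 : form cs h z z = i * i * L + j * j * L + i * j * (2 * form cs h x y) := by
    rw [e, form_add_left, form_add_right, form_add_right, form_smul_left, form_smul_left, form_smul_left,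
      form_smul_left, form_smul_right, form_smul_right, form_smul_right, form_smul_right, hx, hy, form_comm cs h y x]
    ring
  rw [h2, hxy] at h1
  have h3 : (i * i + j * j + i * j) * L ≤ 1 * L := by linarith
  have h4 := le_of_mul_le_mul_right h3 hL
  nlinarith

/-- **In an `A₂`-plane of long roots nontrivial root elements do not commute.** -/
theorem comm_ne_of_long [Finite W] (R : RGD cs h p T n X) (hI : IntComm cs h X) {x y : I → ℤ} (hx : IsRoot cs h x)
    (hy : IsRoot cs h y) (cxy : cpr cs h x y = -1) (cyx : cpr cs h y x = -1)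
    (hm : ∀ [Fintype W] (z : I → ℤ), IsRoot cs h z → form cs h z z ≤ form cs h x x)
    {u v : Y} (hu : u ∈ X x) (hu1 : u ≠ 1) (hv : v ∈ X y) (hv1 : v ≠ 1) : u * v ≠ v * u := by
  intro huv
  have := Fintype.ofFinite W
  have e1 := two_form_cpr cs h x hy
  have e2 := two_form_cpr cs h y hx
  rw [cxy] at e1
  rw [cyx, form_comm] at e2
  set L := form cs h x x with hLdef
  have hyL : form cs h y y = L := by linarith
  have hxyL : 2 * form cs h x y = -L := by linarith
  have hLpos : 0 < L := form_pos cs h hx.ne_zero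
  have hr : IsRoot cs h (x + y) := isRoot_add hx hy cxy
  have hxy : x ≠ y := by
    rintro rfl
    rw [cpr_self cs h hx] at cxy; omega
  have hxy' : x ≠ -y := by
    rintro rfl
    rw [cpr_neg_left _ hy, cpr_self cs h hy] at cxy
    omega
  have hnx : -x ≠ y := fun h0 => hxy' (by rw [← h0, neg_neg])
  have hnx' : -x ≠ -y := fun h0 => hxy (neg_injective h0)
  have f1 : form cs h (-x) (-x) = L := by rw [form_neg_left, form_neg_right, neg_neg]
  have f2 : form cs h (x + y) (x + y) = L := by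
    rw [form_add_left, form_add_right, form_add_right, hyL, form_comm cs h y x]; linarith
  have n1 : ∀ z, ¬ IB cs h (-x) y z := ib_long' hLpos f1 hyL (by rw [form_neg_left]; linarith) hm
  have n2 : ∀ z, IB cs h (-x) (x + y) z → z = y := by
    intro z hz
    have h1 := ib_long hLpos f1 f2 (by rw [form_neg_left, form_add_right]; linarith) hm z hz
    rw [h1]; abel
  have n3 : ∀ z, ¬ IB cs h (x + y) y z := ib_long' hLpos f2 hyL (by rw [form_add_left, hyL]; linarith) hm
  obtain ⟨s, hs, a, ha, b, hb, m, hm', he⟩ := exists_mu R hx hu hu1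
  have e1 : b * v = v * b := comm_of_ib hI hx.neg hy hnx hnx' n1 hb hv
  have e3 : a * v = v * a := comm_of_ib hI hx.neg hy hnx hnx' n1 ha hv
  have hsy : rep cs h s y = x + y := by rw [hs, cyx, neg_one_smul, sub_neg_eq_add, add_comm]
  have h1 : m * v * m⁻¹ ∈ X (x + y) := by
    have := R.conj_mem hm' hy hv
    rwa [hsy] at this
  have h2 : m * v * m⁻¹ = v := by
    have h4 : m * v = v * m := by
      rw [he]
      calc a * u * b * v = a * u * (b * v) := by group
        _ = a * (u * v) * b := by rw [e1]; group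
        _ = (a * v) * u * b := by rw [huv]; group
        _ = v * (a * u * b) := by rw [e3]; group
    rw [h4]; group
  rw [h2] at h1
  have h9 := X_inf_X R hy hr (by
    intro h0
    exact hx.ne_zero (by simpa using h0.symm))
  have : v ∈ X y ⊓ X (x + y) := ⟨hv, h1⟩
  rw [h9, Subgroup.mem_bot] at this
  exact hv1 this

/-! ### reflections in the group -/

/-- an element of `⟨X (α_k), X (-α_k)⟩` over the simple reflection -/
theorem exists_refl [Finite W] (R : RGD cs h p T n X) (k : I) : ∃ m ∈ X (sr k) ⊔ X (-sr k),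
    ∀ x, IsRoot cs h x → ∀ u ∈ X x, m * u * m⁻¹ ∈ X (rep cs h (cs.simple k) x) := by
  have h1 := X_ne_bot R (isRoot_sr cs h k)
  rw [Subgroup.ne_bot_iff_exists_ne_one] at h1
  obtain ⟨⟨u, hu⟩, hu1⟩ := h1
  obtain ⟨s, hs, a, ha, b, hb, m, hm, he⟩ := exists_mu R (isRoot_sr cs h k) hu (fun h2 => hu1 (Subtype.ext h2))
  refine ⟨m, ?_, fun x hx v hv => ?_⟩
  · rw [he]
    exact mul_mem (mul_mem (Subgroup.mem_sup_right ha) (Subgroup.mem_sup_left hu)) (Subgroup.mem_sup_right hb)
  · have h2 := R.conj_mem hm hx hv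
    rw [hs, cpr_sr cs h, ← rep_simple_eq cs h] at h2
    exact h2

/-- a root with the coefficients of `α_i` outside `J` and the length of `α_i` can be moved to `α_i` by `⟨X (± α_j)⟩` -/
theorem move [Fintype W] (R : RGD cs h p T n X) {J : Set I} {i : I} (hi : i ∉ J) {W₀ : Subgroup Y}
    (hn : ∀ j ∈ J, ∀ c ∈ X (sr j) ⊔ X (-sr j), ∀ w ∈ W₀, c * w * c⁻¹ ∈ W₀) (N : ℕ) :
    ∀ r, IsRoot cs h r → r i = 1 → (∀ l, l ∉ J → l ≠ i → r l = 0) →
      form cs h r r = form cs h (sr i) (sr i) → ht r ≤ N → ∀ u ∈ X r, u ∈ W₀ → u ≠ 1 →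
        ∃ u' ∈ X (sr i), u' ∈ W₀ ∧ u' ≠ 1 := by
  induction N with
  | zero =>
    intro r hr h1 _ _ h2 u hu huW hu1
    exfalso
    have h0 : 0 ≤ r := by
      rcases hr.pos_or_neg with h3 | h3
      · exact h3
      · have := h3 i
        rw [h1] at this
        simp at this
    have h3 : 1 ≤ ht r := by
      unfold ht
      rw [← h1]
      exact Finset.single_le_sum (fun j _ => h0 j) (Finset.mem_univ i)
    simp only [Nat.cast_zero] at h2
    omega
  | succ N ih =>
    intro r hr h1 h2 h3 h4 u hu huW hu1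
    by_cases hri : r = sr i
    · subst hri
      exact ⟨u, hu, huW, hu1⟩
    have h0 : 0 ≤ r := by
      rcases hr.pos_or_neg with h5 | h5
      · exact h5
      · have := h5 i
        rw [h1] at this
        simp at this
    obtain ⟨j, hj, hjp⟩ : ∃ j ∈ J, 0 < pairing A j r := by
      by_contra hcon
      push Not at hcon
      apply hri
      have e1 : form cs h r r ≤ form cs h r (sr i) := by
        rw [form_eq_sum cs h r r, ← Finset.add_sum_erase _ _ (Finset.mem_univ i), h1, one_mul]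
        have : ∑ x ∈ Finset.univ.erase i, r x * form cs h r (sr x) ≤ 0 := by
          refine Finset.sum_nonpos fun l hl => ?_
          have hli : l ≠ i := (Finset.mem_erase.1 hl).1
          by_cases hlJ : l ∈ J
          · refine mul_nonpos_of_nonneg_of_nonpos (h0 l) ?_
            by_contra hc
            exact absurd ((form_sr_pos_iff cs h l r).1 (not_le.1 hc)) (not_lt.2 (hcon l hlJ))
          · rw [h2 l hlJ hli, zero_mul]
        linarith
      have e2 : form cs h (r - sr i) (r - sr i) ≤ 0 := by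
        rw [form_sub_left, form_sub_right, form_sub_right, form_comm cs h (sr i) r, ← h3]
        linarith
      by_contra hne
      have := form_pos cs h (sub_ne_zero.2 hne)
      linarith
    obtain ⟨m, hm, hmc⟩ := exists_refl R j
    have hij : i ≠ j := by rintro rfl; exact hi hj
    refine ih (rep cs h (cs.simple j) r) (hr.act _) ?_ ?_ ?_ ?_ (m * u * m⁻¹) (hmc r hr u hu) (hn j hj m hm u huW) ?_
    · rw [rep_simple_apply cs h j r i hij, h1]
    · intro l hl hli
      rw [rep_simple_apply cs h j r l (by rintro rfl; exact hl hj), h2 l hl hli]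
    · rw [form_rep, h3]
    · rw [ht_simple]
      push_cast at h4
      omega
    · intro h5
      apply hu1
      calc u = m⁻¹ * (m * u * m⁻¹) * m := by group
        _ = 1 := by rw [h5]; group

/-! ### The contradiction -/

/-- **The contradiction, general form**: `a` a dominant root, `z ∈ X a` centralised by all `X x` with `⟨x, a^∨⟩ ≥ 0`; `W₀` an abelian
subgroup normalised by the `X (± α_j)`, `j ∈ J`, containing the conjugates of `z` under `⟨X (± α_k)⟩`, `k ∉ J`, and
meeting only the `X r` with `r ∈ NotJ`. -/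
theorem contra_gen [Finite W] (R : RGD cs h p T n X) {a : I → ℤ} (ha : DR cs h a) {J : Set I} (hJ : ∃ i, i ∉ J)
    {z : Y} (hz : z ∈ X a) (hz1 : z ≠ 1)
    (hcen : ∀ x, IsRoot cs h x → x ≠ a → 0 ≤ cpr cs h x a → ∀ u ∈ X x, u * z = z * u)
    (hA2 : ∀ x y, IsRoot cs h x → IsRoot cs h y → x + y = a → cpr cs h x y = -1 → cpr cs h y x = -1 →
      ∀ u ∈ X x, u ≠ 1 → ∀ v ∈ X y, v ≠ 1 → u * v ≠ v * u)
    (W₀ : Subgroup Y) (hab : ∀ u ∈ W₀, ∀ v ∈ W₀, u * v = v * u)
    (hn : ∀ j ∈ J, ∀ c ∈ X (sr j) ⊔ X (-sr j), ∀ w ∈ W₀, c * w * c⁻¹ ∈ W₀)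
    (hk : ∀ k ∉ J, ∀ m ∈ X (sr k) ⊔ X (-sr k), m * z * m⁻¹ ∈ W₀)
    (hc : ∀ k ∉ J, ∃ c ∈ X (-sr k), c * z ≠ z * c)
    (hW : ∀ r, IsRoot cs h r → ∀ u ∈ X r, u ∈ W₀ → u ≠ 1 → 0 ≤ r ∧ ∃ k ∉ J, 0 < r k) : False := by
  have := Fintype.ofFinite W
  obtain ⟨i, hi⟩ := hJ
  -- `⟨α_k, a^∨⟩ > 0` for `k ∉ J`
  have h1 : ∀ k ∉ J, 0 < cpr cs h (sr k) a := by
    intro k hkJ
    by_contra hcon
    have h2 : cpr cs h (sr k) a = 0 := le_antisymm (not_lt.1 hcon) (ha.cpr_nonneg (sr_nonneg k))
    obtain ⟨c, hc1, hc2⟩ := hc k hkJ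
    refine hc2 (hcen (-sr k) (isRoot_sr cs h k).neg ?_ ?_ c hc1)
    · intro h3
      have h4 := ha.nonneg k
      rw [← h3, Pi.neg_apply, sr_self] at h4
      simp at h4
    · rw [cpr_neg_left _ ha.root, h2, neg_zero]
  -- the conjugates of `z`
  have hconj : ∀ k ∉ J, ∃ y ∈ X (rep cs h (cs.simple k) a), y ∈ W₀ ∧ y ≠ 1 := by
    intro k hkJ
    obtain ⟨m, hm, hmc⟩ := exists_refl R k
    refine ⟨m * z * m⁻¹, hmc a ha.root z hz, hk k hkJ m hm, fun h5 => hz1 ?_⟩
    calc z = m⁻¹ * (m * z * m⁻¹) * m := by group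
      _ = 1 := by rw [h5]; group
  have hp : ∀ k ∉ J, 0 ≤ rep cs h (cs.simple k) a ∧ ∃ l ∉ J, 0 < rep cs h (cs.simple k) a l := by
    intro k hkJ
    obtain ⟨y, hy, hyW, hy1⟩ := hconj k hkJ
    exact hW _ (ha.root.act _) y hy hyW hy1
  obtain ⟨-, ei, mi, k, hkJ, ek, mk, ri, rl⟩ := ha.cases hi h1 hp
  have key : ∀ l, cpr cs h (sr l) a = 1 → pairing A l a = 1 → form cs h (sr l) (sr l) = form cs h a a ∧
      rep cs h (cs.simple l) a = a - sr l := by
    intro l hl1 hl2
    have e1 := two_form cs h l a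
    have e2 := two_form_cpr cs h (sr l) ha.root
    rw [hl2] at e1
    rw [hl1, form_comm] at e2
    refine ⟨by linarith, ?_⟩
    rw [rep_simple_eq, hl2, one_smul]
  obtain ⟨fi, si⟩ := key i ei mi
  obtain ⟨fk, sk⟩ := key k ek mk
  obtain ⟨y, hy, hyW, hy1⟩ := hconj i hi
  obtain ⟨y', hy', hyW', hy1'⟩ := hconj k hkJ
  rw [si] at hy
  rw [sk] at hy'
  have hrk : IsRoot cs h (a - sr k) := sk ▸ ha.root.act _
  have hri : IsRoot cs h (a - sr i) := si ▸ ha.root.act _
  obtain ⟨u, hu, huW, hu1⟩ := move R hi hn (ht (a - sr k)).toNat (a - sr k) hrk ri rl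
    (by rw [← sk, form_rep, fi]) (Int.self_le_toNat _) y' hy' hyW' hy1'
  have f1 : form cs h (a - sr i) (a - sr i) = form cs h a a := by rw [← si, form_rep]
  have e2 := two_form_cpr cs h (sr i) ha.root
  rw [ei] at e2
  refine hA2 (sr i) (a - sr i) (isRoot_sr cs h i) hri (by abel) ?_ ?_ u hu hu1 y hy hy1 (hab u huW y hyW)
  · refine cpr_eq_of_form cs h hri ?_
    rw [f1, form_sub_right, fi]
    linarith
  · refine cpr_eq_of_form cs h (isRoot_sr cs h i) ?_
    rw [form_sub_left, form_comm cs h a (sr i), fi]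
    linarith

/-- **The contradiction** for a long dominant root and integral commutator relations. -/
theorem contra [Finite W] (R : RGD cs h p T n X) (hI : IntComm cs h X) {a : I → ℤ} (ha : LD cs h a) {J : Set I}
    (hJ : ∃ i, i ∉ J) {z : Y} (hz : z ∈ X a) (hz1 : z ≠ 1)
    (W₀ : Subgroup Y) (hab : ∀ u ∈ W₀, ∀ v ∈ W₀, u * v = v * u)
    (hn : ∀ j ∈ J, ∀ c ∈ X (sr j) ⊔ X (-sr j), ∀ w ∈ W₀, c * w * c⁻¹ ∈ W₀)
    (hk : ∀ k ∉ J, ∀ m ∈ X (sr k) ⊔ X (-sr k), m * z * m⁻¹ ∈ W₀)
    (hc : ∀ k ∉ J, ∃ c ∈ X (-sr k), c * z ≠ z * c)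
    (hW : ∀ r, IsRoot cs h r → ∀ u ∈ X r, u ∈ W₀ → u ≠ 1 → 0 ≤ r ∧ ∃ k ∉ J, 0 < r k) : False := by
  refine contra_gen R ha.toDR hJ hz hz1 (fun x hx hxa h0 u hu => ha.comm hI hx hxa h0 hu hz) ?_ W₀ hab hn hk hc hW
  intro x y hx hy hxy c1 c2 u hu hu1 v hv hv1
  refine comm_ne_of_long R hI hx hy c1 c2 ?_ hu hu1 hv hv1
  intro _ z hz
  have e1 := two_form_cpr cs h x hy
  have e2 := two_form_cpr cs h y hx
  rw [c1] at e1
  rw [c2, form_comm] at e2
  have h1 : form cs h a a = form cs h x x := by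
    rw [← hxy, form_add_left, form_add_right, form_add_right, form_comm cs h y x]
    linarith
  rw [← h1]
  exact ha.long z hz

end Cfsg.Agent.H331.P1
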