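import Cfsg.Agent.H331.P1.Rank
import Cfsg.Agent.H238.CB.Has

/-!
# S3046, case B: `HasCen` (helper331)

`hasCen_or_ti` : `HasFilt p K`, `K` simple: `HasCen p K`, or the Sylow `p`-subgroups of `K` are TI;
`hasCen_or_ti_of_lie` : the families.
-/

set_option autoImplicit false

namespace Cfsg.Agent.H331.P1

open Cfsg.Agent.KFacts.RgdFilt Cfsg.Agent.KFacts.RgdLieCharP Cfsg.Agent.H238.CB Cfsg.Agent.Tits.Roots

variable {p : ℕ} {K : Type*} [Group K] [Finite K] [IsSimpleGroup K] [Fact p.Prime]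

theorem hasCen_or_ti (hG : HasFilt p K) (hc : ∃ a b : K, a * b ≠ b * a) :
    HasCen p K ∨ ∀ S S' : Sylow p K, S = S' ∨ (S : Subgroup K) ⊓ S' = ⊥ := by
  rcases data_or_ti hG hc with
    ⟨l, M, A, h, T, n, X, R, r, R₀, hW, hGG, -, -, -, hr, hns, h1, h2, h3⟩ | h
  · exact Or.inl ⟨l, M, A, h, T, n, X, R, r, R₀, hW, hGG,
      ⟨hr.root, h1, h2, fun i => hr.cpr_nonneg (sr_nonneg i), h3⟩, hns⟩
  · exact Or.inr h

/-- **The families**: `PSL`, `PSp`, `PSU`, `PΩ`, `G₂`, `F₄`, `E₆`, `E₇`, `E₈`, `²E₆`, `³D₄` in characteristic `p`. -/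
theorem hasCen_or_ti_of_lie (hG : IsLieFilt p K) (hc : ∃ a b : K, a * b ≠ b * a) :
    HasCen p K ∨ ∀ S S' : Sylow p K, S = S' ∨ (S : Subgroup K) ⊓ S' = ⊥ :=
  hasCen_or_ti (hasFilt_of_lie hG) hc

end Cfsg.Agent.H331.P1
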