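import Cfsg.Agent.H331.P1.Cen
import Cfsg.Agent.KFacts.RgdLieCharP

/-!
# S3046, case B: the groups with a filtered root group datum (helper331)

`data_or_ti` : a simple group with `HasFilt p K` (all groups of Lie type in characteristic `p` but `Sz`, `Ree`, `²F₄`) has
either a root group datum with central root elements over a dominant root which is not simple, or its Sylow
`p`-subgroups are TI (rank one).
-/

set_option autoImplicit false
set_option linter.unusedSectionVars false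

namespace Cfsg.Agent.H331.P1

open CoxeterSystem Cfsg.Agent.ChevalleyStructure.CoxeterGeom Cfsg.Agent.Tits.Roots Cfsg.Agent.Tits.Core
  Cfsg.Agent.Tits.Exchange Cfsg.Agent.Nodes.Reps Cfsg.Agent.Nodes.BNOf Cfsg.Agent.Nodes.StabComb
  Cfsg.Agent.Nodes.Bruhat Cfsg.Agent.Nodes.OppDec Cfsg.Agent.Nodes.PosPair Cfsg.Agent.Nodes.Coroot
  Cfsg.Agent.KFacts.RgdSL Cfsg.Agent.KFacts.RgdFilt Cfsg.Agent.KFacts.RgdBorelTits Cfsg.Agent.KFacts.RgdCharP
  Cfsg.Agent.KFacts.RgdLieCharP Cfsg.Agent.KFacts.RgdCent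
open scoped commutatorElement

section

variable {I W Y : Type*} [Fintype I] [DecidableEq I] [Group W] [Group Y] {M : CoxeterMatrix I}
  {cs : CoxeterSystem M W} {A : I → I → ℤ} {h : IsCartan M A} {p : ℕ} {T : Subgroup Y} {n : I → Y}
  {X : (I → ℤ) → Subgroup Y}

theorem w_rank_one (cs : CoxeterSystem M W) [Subsingleton I] (i : I) (w : W) : w = 1 ∨ w = cs.simple i := by
  induction w using cs.simple_induction_left with
  | one => exact Or.inl rfl
  | mul_simple_left w k ih =>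
    have hk : k = i := Subsingleton.elim _ _
    subst hk
    rcases ih with h1 | h1
    · right; rw [h1, mul_one]
    · left; rw [h1, cs.simple_mul_simple_self]

theorem U_le_rank_one [Subsingleton I] (i : I) : RGD.Sup X (RGD.Pos cs h) ≤ X (sr i) := by
  refine RGD.Sup_le fun x hx => ?_
  obtain ⟨⟨w, j, rfl⟩, hx2⟩ := hx
  have hj : j = i := Subsingleton.elim _ _
  subst hj
  rcases w_rank_one cs j w with rfl | rfl
  · rw [map_one, Module.End.one_apply]
  · exfalso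
    rw [rep_simple_sr cs h j] at hx2
    have h2 := hx2 j
    simp [sr] at h2

/-- rank one: `U` meets its other conjugates trivially -/
theorem mem_B_rank_one [Finite W] (R : RGD cs h p T n X) [Subsingleton I] [Nonempty I] (hGG : GG cs h T X = ⊤) {g u : Y}
    (hu : u ∈ RGD.Sup X (RGD.Pos cs h)) (hu1 : u ≠ 1) (hg : g * u * g⁻¹ ∈ RGD.Sup X (RGD.Pos cs h)) :
    g ∈ RGD.B cs h T X := by
  obtain ⟨i⟩ := (inferInstance : Nonempty I)
  obtain ⟨w, hw⟩ := (mem_GG R).1 (show g ∈ GG cs h T X by rw [hGG]; trivial)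
  rcases w_rank_one cs i w with rfl | rfl
  · exact hw.mem_of_one
  · exfalso
    obtain ⟨b, hb, k, hk, b', hb', e⟩ := hw
    have h1 : b' * u * b'⁻¹ ∈ RGD.Sup X (RGD.Pos cs h) :=
      (Subgroup.mem_normalizer_iff.1 (R.B_le_normalizer_U hb') u).1 hu
    have h2 : b' * u * b'⁻¹ ≠ 1 := fun h0 => hu1 (by
      have : u = b'⁻¹ * (b' * u * b'⁻¹) * b' := by group
      rw [this, h0]; group)
    refine h2 (eq_one_of_conj_mem_B R (U_le_rank_one i h1) hk ?_)
    have h3 : b⁻¹ * (g * u * g⁻¹) * b⁻¹⁻¹ ∈ RGD.Sup X (RGD.Pos cs h) :=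
      (Subgroup.mem_normalizer_iff.1 (R.B_le_normalizer_U (inv_mem hb)) _).1 hg
    have h4 : k * (b' * u * b'⁻¹) * k⁻¹ = b⁻¹ * (g * u * g⁻¹) * b⁻¹⁻¹ := by
      rw [e]; group
    rw [h4]
    exact RGD.U_le_B h3

/-- **Rank one: the Sylow subgroups are TI.** -/
theorem ti_of_rank_one [Finite W] [Finite Y] [Subsingleton I] [Nonempty I] [Fact p.Prime] (R : RGD cs h p T n X)
    (hGG : GG cs h T X = ⊤) (S S' : Sylow p Y) : S = S' ∨ (S : Subgroup Y) ⊓ S' = ⊥ := by
  by_contra hcon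
  push Not at hcon
  obtain ⟨hne, hinf⟩ := hcon
  obtain ⟨U, hU⟩ : ∃ U : Sylow p Y, (U : Subgroup Y) = RGD.Sup X (RGD.Pos cs h) := by
    obtain ⟨S', hS'⟩ := R.isPGroup_Upos.exists_le_sylow
    exact ⟨S', Cfsg.Agent.Nodes.NormalForm.eq_U_of_isPGroup R S'.2 hS' (by rw [hGG]; exact le_top)⟩
  obtain ⟨a, ha⟩ := MulAction.exists_smul_eq Y U S
  obtain ⟨b, hb⟩ := MulAction.exists_smul_eq Y U S'
  rw [Subgroup.ne_bot_iff_exists_ne_one] at hinf
  obtain ⟨⟨y, hy, hy'⟩, hy1⟩ := hinf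
  have hy1' : y ≠ 1 := fun h0 => hy1 (Subtype.ext h0)
  rw [← ha] at hy
  rw [← hb] at hy'
  obtain ⟨u, hu, e1⟩ := hy
  obtain ⟨v, hv, e2⟩ := hy'
  have e1' : a * u * a⁻¹ = y := e1
  have e2' : b * v * b⁻¹ = y := e2
  have hu1 : u ≠ 1 := by
    rintro rfl
    apply hy1'
    rw [← e1']; group
  have h1 : b⁻¹ * a * u * (b⁻¹ * a)⁻¹ = v := by
    calc b⁻¹ * a * u * (b⁻¹ * a)⁻¹ = b⁻¹ * (a * u * a⁻¹) * b := by group
      _ = b⁻¹ * (b * v * b⁻¹) * b := by rw [e1', e2']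
      _ = v := by group
  have h2 : b⁻¹ * a ∈ RGD.B cs h T X := by
    refine mem_B_rank_one R hGG (u := u) ?_ hu1 ?_
    · rw [← hU]; exact hu
    · rw [h1, ← hU]; exact hv
  have h3 := R.B_le_normalizer_U h2
  rw [← hU] at h3
  have h4 : (b⁻¹ * a) • U = U := Sylow.smul_eq_iff_mem_normalizer.2 h3
  apply hne
  rw [← ha, ← hb]
  calc a • U = b • ((b⁻¹ * a) • U) := by rw [smul_smul]; congr 1; group
    _ = b • U := by rw [h4]

end

variable {p : ℕ} {K : Type*} [Group K] [Finite K] [IsSimpleGroup K] [Fact p.Prime]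

/-- **The data for case B.** -/
theorem data_or_ti (hG : HasFilt p K) (hc : ∃ a b : K, a * b ≠ b * a) :
    (∃ (l : ℕ) (M : CoxeterMatrix (Fin l)) (A : Fin l → Fin l → ℤ) (h : IsCartan M A) (T : Subgroup K) (n : Fin l → K)
      (X : (Fin l → ℤ) → Subgroup K) (_ : RGD M.toCoxeterSystem h p T n X) (r : Fin l → ℤ) (R₀ : Subgroup K),
      Finite M.Group ∧ GG M.toCoxeterSystem h T X = ⊤ ∧ NoCent M.toCoxeterSystem h T X ∧ Conn M ∧ 2 ≤ l ∧
        DR M.toCoxeterSystem h r ∧ (∀ i, r ≠ sr i) ∧ R₀ ≤ X r ∧ R₀ ≠ ⊥ ∧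
        ∀ x, IsRoot M.toCoxeterSystem h x → 0 ≤ cpr M.toCoxeterSystem h x r →
          X x ≤ Subgroup.centralizer (R₀ : Set K)) ∨
    ∀ S S' : Sylow p K, S = S' ∨ (S : Subgroup K) ⊓ S' = ⊥ := by
  obtain ⟨l, M, A, h, T, n, X, R, F, hW, hX, hF⟩ := hG
  have hc' := KFacts.RgdLieCharP.center_eq_bot hc
  have hGG := GG_eq_top (T := T) hX
  have hl : 0 < l := by
    rcases Nat.eq_zero_or_pos l with h0 | h0
    · exfalso
      subst h0
      have h1 : (⊤ : Subgroup K) = ⊥ := by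
        rw [← hX, eq_bot_iff]
        refine RGD.Sup_le fun x hx => ?_
        obtain ⟨w, i, -⟩ := hx
        exact i.elim0
      exact top_ne_bot h1
    · exact h0
  have : Nonempty (Fin l) := ⟨⟨0, hl⟩⟩
  by_cases hl1 : l = 1
  · right
    subst hl1
    exact ti_of_rank_one R hGG
  · left
    obtain ⟨r, R₀, hr, h1, h2, h3⟩ := exists_cen hF
    have hconn := conn_of_simple R hX hc'
    exact ⟨l, M, A, h, T, n, X, R, r, R₀, hW, hGG, noCent_of_center hX hc', hconn, by omega, hr,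
      fun i => ne_sr_of_conn hconn (by rw [Fintype.card_fin]; omega) hr i, h1, h2, h3⟩

end Cfsg.Agent.H331.P1
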